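import Cfsg.Agent.Techniques.QuadS4.Offender
import Cfsg.Agent.ConjFunctor.ClassTwoJ

/-!
# The Thompson subgroup of a `2`-constrained `S₄`-free group with Sylow `2`-subgroups of class two

If `C(O₂(G)) ≤ O₂(G)`, `S₄` is not involved and a Sylow `2`-subgroup has class at most two, then the
elementary abelian subgroups of largest order lie in `O₂(G)`.  No solvability is assumed.
-/

set_option autoImplicit false

namespace CfsgLib.Techniques.QuadS4

open Cfsg Subgroup CfsgLib.ConjFunctor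
open scoped commutatorElement IsMulCommutative

variable {G : Type*} [Group G] [Finite G] {S : Sylow 2 G}

theorem maxEA_le_pCore (hS4 : ¬ Involves (Equiv.Perm (Fin 4)) G)
    (hcon : Subgroup.centralizer (pCore 2 G : Set G) ≤ pCore 2 G)
    (hcl : ⁅⁅(S : Subgroup G), (S : Subgroup G)⁆, (S : Subgroup G)⁆ = ⊥)
    {A : Subgroup G} (hA : A ∈ PLocal.maxEAIn 2 (S : Subgroup G)) : A ≤ pCore 2 G := by
  classical
  haveI : Fact (Nat.Prime 2) := ⟨Nat.prime_two⟩
  obtain ⟨hAS, hAe, hAmax⟩ := hA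
  set Q := pCore 2 G with hQ
  have hQn : Q.Normal := inferInstance
  have hQS : Q ≤ S := PLocal.pCore_le_sylow S
  set Z := Q ⊓ Subgroup.centralizer (Q : Set G) with hZ
  set W := omegaOne 2 Z with hW
  have hZab : IsMulCommutative Z := ⟨⟨fun x y => Subtype.ext
    (Subgroup.mem_centralizer_iff.mp y.2.2 x x.2.1)⟩⟩
  have hWel : IsElementaryAbelian 2 W := PLocal.isElementaryAbelian_omegaOne hZab
  have hWQ : W ≤ Q := (PLocal.omegaOne_le 2 Z).trans inf_le_left
  have hWn : W.Normal := by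
    refine normalizer_eq_top_iff.mp (eq_top_iff.mpr fun g _ => mem_normalizer_iff_cj.mpr ?_)
    rw [hW, PLocal.map_omegaOne (MulAut.conj g).injective, hZ, Subgroup.map_inf _ _ _ (MulAut.conj g).injective]
    congr 1
    have h1 : Q.map (MulAut.conj g).toMonoidHom = Q :=
      cj_eq_of_mem_normalizer ((normalizer_eq_top Q).ge (mem_top g))
    rw [h1]
    congr 1
    exact cj_eq_of_mem_normalizer ((normalizer_eq_top (Subgroup.centralizer (Q : Set G))).ge (mem_top g))
  haveI := hWel.1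
  have hcen : ∀ s ∈ (S : Subgroup G), ∀ t ∈ (S : Subgroup G), ∀ u ∈ (S : Subgroup G),
      u * ⁅s, t⁆ = ⁅s, t⁆ * u := fun s hs t ht u hu => by
    have h1 : ⁅⁅s, t⁆, u⁆ ∈ (⊥ : Subgroup G) :=
      hcl ▸ commutator_mem_commutator (commutator_mem_commutator hs ht) hu
    exact (commutatorElement_eq_one_iff_mul_comm.mp (Subgroup.mem_bot.mp h1)).symm
  have hcomW : ∀ a ∈ (S : Subgroup G), a * a = 1 → ∀ q ∈ Q, ⁅a, q⁆ ∈ W := by
    intro a haS ha2 q hq
    have hqS := hQS hq
    refine PLocal.mem_omegaOne (Subgroup.mem_inf.mpr ⟨?_, Subgroup.mem_centralizer_iff.mpr fun u hu => ?_⟩) ?_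
    · exact Q.mul_mem (hQn.conj_mem q hq a) (Q.inv_mem hq)
    · exact hcen a haS q hqS u (hQS hu)
    · have h1 : a * ⁅a, q⁆ * a⁻¹ = ⁅a, q⁆ := by rw [hcen a haS q hqS a haS, mul_inv_cancel_right]
      calc ⁅a, q⁆ ^ 2 = a * ⁅a, q⁆ * a⁻¹ * ⁅a, q⁆ := by rw [h1, sq]
        _ = ⁅a * a, q⁆ := by simp only [commutatorElement_def]; group
        _ = 1 := by rw [ha2]; simp [commutatorElement_def]
  -- the image in `Aut W`
  let φ : G →* MulAut W := MulAut.conjNormal
  let X : Subgroup (MulAut W) := φ.range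
  let π : G →* X := φ.rangeRestrict
  have hπs : Function.Surjective π := φ.rangeRestrict_surjective
  letI : DistribMulAction X (Additive W) :=
    { smul := fun x w => Additive.ofMul ((x : MulAut W) w.toMul)
      one_smul := fun _ => rfl
      mul_smul := fun _ _ _ => rfl
      smul_zero := fun x => congrArg Additive.ofMul (map_one (x : MulAut W))
      smul_add := fun x v w => congrArg Additive.ofMul (map_mul (x : MulAut W) v.toMul w.toMul) }
  have hval : ∀ (g : G) (w : Additive W), (((π g • w).toMul : W) : G) = g * (w.toMul : G) * g⁻¹ :=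
    fun g w => MulAut.conjNormal_apply g w.toMul
  have hπ1 : ∀ g : G, π g = 1 ↔ ∀ w ∈ W, g * w = w * g := by
    intro g
    constructor
    · intro hg w hw
      have h1 := hval g (Additive.ofMul (⟨w, hw⟩ : W))
      rw [hg, one_smul] at h1
      exact mul_inv_eq_iff_eq_mul.mp (h1.symm : g * w * g⁻¹ = w)
    · intro hg
      refine Subtype.ext (MulEquiv.ext fun w => Subtype.ext ?_)
      show g * (w : G) * g⁻¹ = w
      rw [hg w w.2, mul_inv_cancel_right]
  have hQker : ∀ q ∈ Q, π q = 1 := fun q hq => (hπ1 q).mpr fun w hw =>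
    Subgroup.mem_centralizer_iff.mp (Subgroup.mem_inf.mp ((PLocal.omegaOne_le 2 Z) hw)).2 q hq
  have hset : Setting X (Additive W) := by
    refine ⟨fun w => ?_, fun x hx => ?_, ?_, ?_⟩
    · refine Additive.toMul.injective (Subtype.ext ?_)
      show (w.toMul : G) * w.toMul = 1
      rw [← sq]; exact hWel.2 _ w.toMul.2
    · refine Subtype.ext (MulEquiv.ext fun w => ?_)
      exact congrArg Additive.toMul (hx (Additive.ofMul w))
    · intro R hR a ha b hb w
      obtain ⟨P, hRP⟩ := hR.exists_le_sylow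
      obtain ⟨g', hg'⟩ := MulAction.exists_smul_eq X (S.mapSurjective hπs) P
      obtain ⟨g, rfl⟩ := hπs g'
      have hlift : ∀ r ∈ R, ∃ s ∈ (S : Subgroup G), π (g * s * g⁻¹) = r := by
        intro r hr
        have h1 : r ∈ ((π g • S.mapSurjective hπs : Sylow 2 X) : Subgroup X) := by rw [hg']; exact hRP hr
        rw [Sylow.coe_subgroup_smul] at h1
        obtain ⟨y, hy, rfl⟩ := (Subgroup.mem_smul_pointwise_iff_exists _ _ _).mp h1
        obtain ⟨s, hs, rfl⟩ := (show y ∈ (S : Subgroup G).map π from hy)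
        exact ⟨s, hs, by rw [map_mul, map_mul, map_inv]; rfl⟩
      obtain ⟨s, hs, rfl⟩ := hlift a ha
      obtain ⟨t, ht, rfl⟩ := hlift b hb
      set w' := g⁻¹ * (w.toMul : G) * g
      have hw' : w' ∈ (S : Subgroup G) := hQS (hWQ (by simpa using hWn.conj_mem _ w.toMul.2 g⁻¹))
      have hd : (((π (g * t * g⁻¹) • w - w).toMul : W) : G) = g * ⁅t, w'⁆ * g⁻¹ := by
        rw [toMul_sub, div_eq_mul_inv, Subgroup.coe_mul, Subgroup.coe_inv, hval]
        simp only [w', commutatorElement_def]; group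
      refine Additive.toMul.injective (Subtype.ext ?_)
      rw [hval, hd]
      calc g * s * g⁻¹ * (g * ⁅t, w'⁆ * g⁻¹) * (g * s * g⁻¹)⁻¹ = g * (s * ⁅t, w'⁆ * s⁻¹) * g⁻¹ := by group
        _ = g * ⁅t, w'⁆ * g⁻¹ := by rw [hcen t ht w' hw' s hs, mul_inv_cancel_right]
    · intro e k he hk hinv
      obtain ⟨a, rfl⟩ := hπs e
      obtain ⟨b, rfl⟩ := hπs k
      refine hS4 (Cfsg.Agent.S2759.sufficiency W (S.isPGroup'.to_le (hWQ.trans hQS)) ?_)
      set N := Subgroup.normalizer (W : Set G)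
      let e : G →* N := (MonoidHom.id G).codRestrict N fun x => (normalizer_eq_top W).ge (mem_top x)
      let q : N →* N ⧸ (Subgroup.centralizer (W : Set G)).subgroupOf N := QuotientGroup.mk' _
      let θ : G →* N ⧸ (Subgroup.centralizer (W : Set G)).subgroupOf N := q.comp e
      have hθ : ∀ x : G, θ x = 1 ↔ π x = 1 := fun x => by
        rw [hπ1]
        refine (QuotientGroup.eq_one_iff _).trans (Subgroup.mem_subgroupOf.trans ?_)
        rw [Subgroup.mem_centralizer_iff]
        exact ⟨fun hx w hw => (hx w hw).symm, fun hx w hw => (hx w hw).symm⟩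
      haveI : Fact (Nat.Prime 3) := ⟨Nat.prime_three⟩
      have hk3 : orderOf (θ b) = 3 := by
        refine orderOf_eq_prime ?_ fun h => ?_
        · rw [← map_pow, hθ, map_pow, ← hk, pow_orderOf_eq_one]
        · rw [hθ] at h
          rw [h, orderOf_one] at hk
          exact absurd hk (by norm_num)
      have ha2o : ∃ j, orderOf (θ a) = 2 ^ j := by
        have : orderOf (θ a) ∣ 2 ^ 1 := orderOf_dvd_of_pow_eq_one (by
          rw [pow_one, ← map_pow, hθ, map_pow, sq, he])
        obtain ⟨j, -, hj⟩ := (Nat.dvd_prime_pow Nat.prime_two).1 this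
        exact ⟨j, hj⟩
      have hinv' : θ a * θ b * (θ a)⁻¹ = (θ b)⁻¹ := by
        rw [eq_inv_iff_mul_eq_one, ← map_inv, ← map_mul, ← map_mul, ← map_mul, hθ, map_mul, map_mul,
          map_mul, map_inv, hinv, inv_mul_cancel]
      obtain ⟨L, f, hf⟩ := LocalEven.exists_surjective_of_involves'
        (LocalEven.involves_dihedral_of_inverted (p := 3) (by decide) hk3 ha2o hinv')
      exact LocalEven.involves_of_surjective L (WeakClosed.dihedralToPerm.comp f)
        (WeakClosed.dihedralToPerm_surjective.comp hf)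
  -- elements of `A` mapping into the core lie in `Q`
  have hcore : ∀ a ∈ A, π a ∈ twoCore (⊤ : Subgroup X) → a ∈ Q := by
    intro a ha haX
    let N1 : Subgroup G :=
      { carrier := {x | ∀ q ∈ Q, ⁅x, q⁆ ∈ W}
        one_mem' := fun q _ => by rw [commutatorElement_one_left]; exact W.one_mem
        mul_mem' := fun {x y} hx hy q hq => by
          rw [show ⁅x * y, q⁆ = x * ⁅y, q⁆ * x⁻¹ * ⁅x, q⁆ by simp only [commutatorElement_def]; group]
          exact W.mul_mem (hWn.conj_mem _ (hy q hq) x) (hx q hq)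
        inv_mem' := fun {x} hx q hq => by
          rw [show ⁅x⁻¹, q⁆ = x⁻¹ * ⁅x, q⁆⁻¹ * x⁻¹⁻¹ by simp only [commutatorElement_def]; group]
          exact hWn.conj_mem _ (W.inv_mem (hx q hq)) _ }
    set M := N1 ⊓ (twoCore (⊤ : Subgroup X)).comap π
    haveI : M.Normal := ⟨fun x hx y => by
      refine ⟨fun q hq => ?_, ?_⟩
      · rw [show ⁅y * x * y⁻¹, q⁆ = y * ⁅x, y⁻¹ * q * y⁆ * y⁻¹ by simp only [commutatorElement_def]; group]
        exact hWn.conj_mem _ (hx.1 _ (by simpa using hQn.conj_mem q hq y⁻¹)) y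
      · show π (y * x * y⁻¹) ∈ twoCore (⊤ : Subgroup X)
        rw [map_mul, map_mul, map_inv]
        exact twoCore_conj (Subgroup.mem_top _) hx.2⟩
    have hM : IsPGroup 2 M := by
      intro x
      obtain ⟨j, hj⟩ := isPGroup_twoCore (⊤ : Subgroup X) ⟨π (x : G), x.2.2⟩
      set t := (x : G) ^ 2 ^ j
      have ht1 : π t = 1 := by rw [map_pow]; exact congrArg Subtype.val hj
      have htq : ∀ q ∈ Q, ⁅t, q⁆ ∈ W := N1.pow_mem x.2.1 _
      have ht2 : t ^ 2 ∈ Q := hcon (Subgroup.mem_centralizer_iff.mpr fun q hq => by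
        set c := ⁅t, q⁆
        have hc := htq q hq
        have htc : t * c * t⁻¹ = c := by rw [(hπ1 t).mp ht1 c hc, mul_inv_cancel_right]
        have hc2 : c * c = 1 := by rw [← sq]; exact hWel.2 c hc
        have : t ^ 2 * q * (t ^ 2)⁻¹ = q := by
          calc t ^ 2 * q * (t ^ 2)⁻¹ = t * c * t⁻¹ * c * q := by
                rw [sq]; simp only [c, commutatorElement_def]; group
            _ = q := by rw [htc, hc2, one_mul]
        exact (mul_inv_eq_iff_eq_mul.mp this).symm)
      obtain ⟨i, hi⟩ := PLocal.isPGroup_pCore 2 G ⟨t ^ 2, ht2⟩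
      refine ⟨j + 1 + i, Subtype.ext ?_⟩
      have h1 : (t ^ 2) ^ 2 ^ i = 1 := congrArg Subtype.val hi
      rw [SubmonoidClass.coe_pow, pow_add, pow_mul, pow_add, pow_mul, pow_one]
      exact h1
    exact PLocal.le_pCore hM ⟨hcomW a (hAS ha) (by rw [← sq]; exact hAe.2 a ha), haX⟩
  by_contra hAQ
  set E := A.map π
  have hEp : IsPGroup 2 E := (S.isPGroup'.to_le hAS).map π
  have hEne : E ≠ ⊥ := fun h => hAQ fun a ha => hcore a ha (by
    have h1 : π a ∈ E := mem_map_of_mem π ha
    rw [h, Subgroup.mem_bot] at h1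
    rw [h1]; exact one_mem _)
  have hdis : E ⊓ twoCore (⊤ : Subgroup X) = ⊥ := by
    refine le_bot_iff.mp ?_
    rintro _ ⟨⟨a, ha, rfl⟩, haX⟩
    exact Subgroup.mem_bot.mpr (hQker a (hcore a ha haX))
  have hlt := hset.card_mul_card_fixPts_lt hEp hEne hdis
  have hfix : Nat.card ↥(W ⊓ Subgroup.centralizer (A : Set G)) ≤
      Nat.card (fixPts E (⊤ : AddSubgroup (Additive W))) := by
    refine Nat.card_le_card_of_injective
      (fun w => ⟨Additive.ofMul (⟨w.1, w.2.1⟩ : W), AddSubgroup.mem_top _, ?_⟩) fun u v huv => ?_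
    · rintro _ ⟨a, ha, rfl⟩
      refine Additive.toMul.injective (Subtype.ext ?_)
      rw [hval]
      show a * (w : G) * a⁻¹ = w
      rw [Subgroup.mem_centralizer_iff.mp w.2.2 a ha, mul_inv_cancel_right]
    · exact Subtype.ext (congrArg (fun z => (((z.1 : Additive W).toMul : W) : G)) huv :)
  -- the replacement `(A ∩ Q) W`
  have hDe : IsElementaryAbelian 2 (A ⊓ Q ⊔ W : Subgroup G) :=
    PLocal.isElementaryAbelian_sup (PLocal.isElementaryAbelian_of_le hAe inf_le_left) hWel
      (fun x hx => Subgroup.mem_centralizer_iff.mpr fun w hw =>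
        (Subgroup.mem_centralizer_iff.mp (Subgroup.mem_inf.mp ((PLocal.omegaOne_le 2 Z) hw)).2 x hx.2).symm)
  have h2 : Nat.card ↥(A ⊓ Q) * Nat.card W ≤ Nat.card A * Nat.card ↥(W ⊓ Subgroup.centralizer (A : Set G)) := by
    refine (PLocal.card_sup_mul_card_inf (A := A ⊓ Q) (B := W)
      (by rw [normalizer_eq_top]; exact le_top)).ge.trans (Nat.mul_le_mul ?_ ?_)
    · exact hAmax _ (sup_le (inf_le_left.trans hAS) (hWQ.trans hQS)) hDe
    · refine Subgroup.card_le_of_le fun x hx => Subgroup.mem_inf.mpr ⟨hx.2, ?_⟩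
      exact Subgroup.mem_centralizer_iff.mpr fun y hy =>
        congrArg Subtype.val (hAe.1.is_comm.comm (⟨y, hy⟩ : A) ⟨x, hx.1.1⟩)
  have hcard : Nat.card A ≤ Nat.card E * Nat.card ↥(A ⊓ Q) := by
    let g : A →* E := π.subgroupMap A
    rw [Subgroup.card_eq_card_quotient_mul_card_subgroup g.ker,
      Nat.card_congr (QuotientGroup.quotientKerEquivOfSurjective g (π.subgroupMap_surjective A)).toEquiv]
    refine Nat.mul_le_mul_left _ (Nat.card_le_card_of_injective
      (fun x : g.ker => (⟨(x : A), (x : A).2, hcore _ (x : A).2 (by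
        have h1 : π ((x : A) : G) = 1 := congrArg Subtype.val x.2
        rw [h1]; exact one_mem _)⟩ : ↥(A ⊓ Q))) fun u v huv => ?_)
    exact Subtype.ext (Subtype.ext (congrArg (fun z => (z.1 : G)) huv :))
  have hWcard : Nat.card (Additive W) = Nat.card W := Nat.card_congr Additive.toMul
  rw [hWcard] at hlt
  have : Nat.card ↥(A ⊓ Q) * Nat.card W < Nat.card ↥(A ⊓ Q) * Nat.card W :=
    calc Nat.card ↥(A ⊓ Q) * Nat.card W
        ≤ Nat.card A * Nat.card ↥(W ⊓ Subgroup.centralizer (A : Set G)) := h2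
      _ ≤ Nat.card E * Nat.card ↥(A ⊓ Q) * Nat.card (fixPts E (⊤ : AddSubgroup (Additive W))) :=
          Nat.mul_le_mul hcard hfix
      _ = Nat.card ↥(A ⊓ Q) * (Nat.card E * Nat.card (fixPts E (⊤ : AddSubgroup (Additive W)))) := by ring
      _ < _ := (Nat.mul_lt_mul_left Nat.card_pos).mpr hlt
  exact lt_irrefl _ this

end CfsgLib.Techniques.QuadS4
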