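import Cfsg.Agent.PLocal.Cores
import Cfsg.Agent.Small.BaerSuzuki
import Mathlib.GroupTheory.PGroup
import Mathlib.GroupTheory.Index

/-!
# Groups with quadratic `2`-subgroups on a module in characteristic two: auxiliary facts

The `2`-core of a subgroup, fixed points, and the centralizer lemma for a `2`-group times an element of
odd order.
-/

set_option autoImplicit false

namespace CfsgLib.Techniques.QuadS4

open Cfsg

variable {X : Type*} [Group X] [Finite X] {W : Type*} [AddCommGroup W] [DistribMulAction X W]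

/-- `O_2` of a subgroup, inside the group. -/
def twoCore (Y : Subgroup X) : Subgroup X := (pCore 2 ↥Y).map Y.subtype

theorem twoCore_le (Y : Subgroup X) : twoCore Y ≤ Y := Subgroup.map_subtype_le _

theorem isPGroup_twoCore (Y : Subgroup X) : IsPGroup 2 (twoCore Y) :=
  (PLocal.isPGroup_pCore 2 ↥Y).map _

theorem twoCore_conj {Y : Subgroup X} {y d : X} (hy : y ∈ Y) (hd : d ∈ twoCore Y) :
    y * d * y⁻¹ ∈ twoCore Y := by
  obtain ⟨d, hd, rfl⟩ := hd
  have hn : (pCore 2 ↥Y).Normal := inferInstance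
  exact ⟨⟨y, hy⟩ * d * ⟨y, hy⟩⁻¹, hn.conj_mem d hd _, rfl⟩

theorem le_normalizer_twoCore (Y : Subgroup X) : Y ≤ Subgroup.normalizer (twoCore Y : Set X) :=
  fun _ hy => Subgroup.mem_normalizer_fintype fun _ hd => twoCore_conj hy hd

theorem le_twoCore {Y R : Subgroup X} (hRY : R ≤ Y) (hR : IsPGroup 2 R)
    (hn : ∀ y ∈ Y, ∀ r ∈ R, y * r * y⁻¹ ∈ R) : R ≤ twoCore Y := by
  haveI : (R.subgroupOf Y).Normal := ⟨fun r hr y => hn y y.2 r hr⟩
  have h := PLocal.le_pCore (G := ↥Y) (p := 2) (N := R.subgroupOf Y) (hR.comap_subtype (K := Y))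
  exact fun r hr => ⟨⟨r, hRY hr⟩, h hr, rfl⟩

/-- The `2`-core of a subgroup normalized by `Y` lies in that of `Y`. -/
theorem twoCore_le_twoCore {Y Z : Subgroup X} (hZY : Z ≤ Y)
    (hn : ∀ y ∈ Y, ∀ z ∈ Z, y * z * y⁻¹ ∈ Z) : twoCore Z ≤ twoCore Y := by
  refine le_twoCore ((twoCore_le Z).trans hZY) (isPGroup_twoCore Z) fun y hy r hr => ?_
  have h : (twoCore Z).map (MulAut.conj y).toMonoidHom ≤ twoCore Z := by
    refine le_twoCore ?_ ((isPGroup_twoCore Z).map _) fun z hz s hs => ?_
    · rintro _ ⟨d, hd, rfl⟩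
      exact hn y hy d (twoCore_le Z hd)
    · obtain ⟨d, hd, rfl⟩ := hs
      have hz' : y⁻¹ * z * y ∈ Z := by simpa using hn y⁻¹ (inv_mem hy) z hz
      exact ⟨_, twoCore_conj hz' hd, by simp [mul_assoc]⟩
  exact h ⟨r, hr, rfl⟩

/-- The points of `U` fixed by `E`. -/
def fixPts (E : Subgroup X) (U : AddSubgroup W) : AddSubgroup W where
  carrier := {w | w ∈ U ∧ ∀ e ∈ E, e • w = w}
  zero_mem' := ⟨U.zero_mem, fun _ _ => smul_zero _⟩
  add_mem' := fun hx hy => ⟨U.add_mem hx.1 hy.1, fun e he => by rw [smul_add, hx.2 e he, hy.2 e he]⟩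
  neg_mem' := fun hx => ⟨U.neg_mem hx.1, fun e he => by rw [smul_neg, hx.2 e he]⟩

theorem fixPts_le (E : Subgroup X) (U : AddSubgroup W) : fixPts E U ≤ U := fun _ h => h.1

theorem fixPts_anti {E E' : Subgroup X} (h : E ≤ E') (U : AddSubgroup W) : fixPts E' U ≤ fixPts E U :=
  fun _ hw => ⟨hw.1, fun e he => hw.2 e (h he)⟩

/-- The stabilizer of a vector, as a subgroup. -/
def stab (w : W) : Subgroup X := MulAction.stabilizer X w

theorem mem_stab {w : W} {x : X} : x ∈ stab w ↔ x • w = w := MulAction.mem_stabilizer_iff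

theorem smul_sum' {ι : Type*} (x : X) (f : ι → W) (s : Finset ι) :
    x • ∑ i ∈ s, f i = ∑ i ∈ s, x • f i := Finset.smul_sum

variable [Finite W]

omit [Finite X] [Finite W] [DistribMulAction X W] in
theorem card_mul_relIndex' {A B : AddSubgroup W} (h : A ≤ B) :
    Nat.card A * A.relIndex B = Nat.card B := by
  rw [← AddSubgroup.relIndex_bot_left, ← AddSubgroup.relIndex_bot_left,
    AddSubgroup.relIndex_mul_relIndex ⊥ A B bot_le h]

theorem card_mul_card_le_of_le {U C S : AddSubgroup W} (hC : C ≤ U) (hS : S ≤ U) :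
    Nat.card C * Nat.card S ≤ Nat.card U * Nat.card ↥(C ⊓ S : AddSubgroup W) := by
  have h1 : Nat.card ↥(C ⊓ S : AddSubgroup W) * (C ⊓ S).relIndex C = Nat.card C :=
    card_mul_relIndex' inf_le_left
  have h2 : Nat.card S * S.relIndex U = Nat.card U := card_mul_relIndex' hS
  have h3 : (C ⊓ S).relIndex C ≤ S.relIndex U := by
    rw [inf_comm, AddSubgroup.inf_relIndex_right]
    exact AddSubgroup.relIndex_le_of_le_right hC fun h0 => (Nat.card_pos (α := U)).ne' (by rw [← card_mul_relIndex' hS, h0, mul_zero])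
  rw [← h1, ← h2]
  calc Nat.card ↥(C ⊓ S : AddSubgroup W) * (C ⊓ S).relIndex C * Nat.card S
      ≤ Nat.card ↥(C ⊓ S : AddSubgroup W) * S.relIndex U * Nat.card S :=
        Nat.mul_le_mul_right _ (Nat.mul_le_mul_left _ h3)
    _ = _ := by ring

/-- An element of odd order commuting with a `2`-group `D` and fixing the fixed points of `D` fixes
everything. -/
theorem fix_of_fix_fixPts (h2 : ∀ w : W, w + w = 0) {D : Subgroup X} (hD : IsPGroup 2 D) {x : X}
    (hx : Odd (orderOf x)) (hxD : ∀ d ∈ D, d * x = x * d) {U : AddSubgroup W}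
    (hxU : ∀ u ∈ U, x • u ∈ U) (hDU : ∀ d ∈ D, ∀ u ∈ U, d • u ∈ U)
    (hfix : ∀ u ∈ fixPts D U, x • u = u) : ∀ u ∈ U, x • u = u := by
  haveI : Fact (Nat.Prime 2) := ⟨Nat.prime_two⟩
  set r := orderOf x with hr
  let N : W → W := fun u => ∑ i ∈ Finset.range r, x ^ i • u
  have hsum : ∀ c : W, ∑ _i ∈ Finset.range r, c = c := fun c => by
    obtain ⟨k, hk⟩ := hx
    rw [Finset.sum_const, Finset.card_range, hk, succ_nsmul, mul_nsmul, two_nsmul, h2, smul_zero, zero_add]
  have hNadd : ∀ u v, N (u + v) = N u + N v := fun u v => by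
    simp only [N, smul_add, Finset.sum_add_distrib]
  have hxN : ∀ u, x • N u = N u := fun u => by
    have h1 : N u + u = x • N u + u := by
      have e1 := Finset.sum_range_succ (fun i => x ^ i • u) r
      have e2 := Finset.sum_range_succ' (fun i => x ^ i • u) r
      rw [pow_orderOf_eq_one, one_smul] at e1
      simp only [pow_zero, one_smul] at e2
      have e3 : ∑ i ∈ Finset.range r, x ^ (i + 1) • u = x • N u := by
        simp only [N, smul_sum', pow_succ', mul_smul]
      rw [← e1, ← e3, ← e2]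
    exact (add_right_cancel h1).symm
  have hpow : ∀ i, ∀ u ∈ U, x ^ i • u ∈ U := by
    intro i
    induction i with
    | zero => intro u hu; simpa using hu
    | succ i ih => intro u hu; rw [pow_succ', mul_smul]; exact hxU _ (ih u hu)
  have hNfix : ∀ u, N (N u) = N u := fun u => by
    have : ∀ i, x ^ i • N u = N u := fun i => by
      induction i with
      | zero => simp
      | succ i ih => rw [pow_succ', mul_smul, ih, hxN]
    calc N (N u) = ∑ _i ∈ Finset.range r, N u := Finset.sum_congr rfl fun i _ => this i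
      _ = N u := hsum _
  let V : AddSubgroup W :=
    { carrier := {u | u ∈ U ∧ N u = 0}
      zero_mem' := ⟨U.zero_mem, by simp [N]⟩
      add_mem' := fun hu hv => ⟨U.add_mem hu.1 hv.1, by rw [hNadd, hu.2, hv.2, add_zero]⟩
      neg_mem' := fun {u} hu => by
        rw [show -u = u from neg_eq_of_add_eq_zero_left (h2 u)]; exact hu }
  letI : MulAction D V :=
    { smul := fun d v => ⟨(d : X) • (v : W), hDU d d.2 v v.2.1, by
        have h : ∀ i, x ^ i • ((d : X) • (v : W)) = (d : X) • (x ^ i • (v : W)) := fun i => by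
          rw [← mul_smul, ← mul_smul, ((show Commute (d : X) x from hxD d d.2).pow_right i).eq]
        show N ((d : X) • (v : W)) = 0
        simp only [N, h, ← smul_sum']
        rw [show ∑ i ∈ Finset.range r, x ^ i • (v : W) = 0 from v.2.2, smul_zero]⟩
      one_smul := fun v => Subtype.ext (one_smul X (v : W))
      mul_smul := fun d e v => Subtype.ext (mul_smul (d : X) (e : X) (v : W)) }
  have hV : ∀ u ∈ V, u = 0 := by
    by_contra! hne
    obtain ⟨u, hu, hu0⟩ := hne
    have hdvd : 2 ∣ Nat.card V := by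
      have h1 : addOrderOf (⟨u, hu⟩ : V) = 2 := addOrderOf_eq_prime (Subtype.ext (by simpa [two_nsmul] using h2 u))
        fun h => hu0 (congrArg Subtype.val h)
      exact h1 ▸ addOrderOf_dvd_natCard _
    obtain ⟨v, hv, hne'⟩ := hD.exists_fixed_point_of_prime_dvd_card_of_fixed_point V hdvd
      (a := 0) fun d => Subtype.ext (smul_zero (d : X))
    have hvD : (v : W) ∈ fixPts D U := ⟨v.2.1, fun d hd => congrArg Subtype.val (hv ⟨d, hd⟩)⟩
    have hxi : ∀ i, x ^ i • (v : W) = (v : W) := fun i => by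
      induction i with
      | zero => simp
      | succ i ih => rw [pow_succ', mul_smul, ih, hfix _ hvD]
    have h0 : N (v : W) = (v : W) := by
      calc N (v : W) = ∑ _i ∈ Finset.range r, (v : W) := Finset.sum_congr rfl fun i _ => hxi i
        _ = _ := hsum _
    exact hne' (Subtype.ext (h0.symm.trans v.2.2).symm)
  intro u hu
  have hmem : u + N u ∈ V := ⟨U.add_mem hu (AddSubgroup.sum_mem U fun i _ => hpow i u hu),
    by rw [hNadd, hNfix, h2]⟩
  have : u = N u := by
    have := eq_neg_of_add_eq_zero_left (hV _ hmem)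
    rwa [neg_eq_of_add_eq_zero_left (h2 (N u))] at this
  rw [this]
  exact hxN u

end CfsgLib.Techniques.QuadS4
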