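import Cfsg.Agent.Techniques.QuadS4.Basic

/-!
# No offenders without a dihedral subgroup of order six

Let a finite group act faithfully on an elementary abelian `2`-group so that all its `2`-subgroups act
quadratically.  If no involution inverts an element of order three, no elementary abelian subgroup meeting
the `2`-core trivially is an offender.

A minimal counterexample is generated by `E` and a conjugate `F`, and by `a` and `F` for every
nontrivial `a ∈ E`; counting gives `E ≅ C(E)/C(Y)` through commutation with any vector fixed by `F`,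
and this produces a product `e * f` permuting three cosets cyclically.
-/

set_option autoImplicit false

namespace CfsgLib.Techniques.QuadS4

open Cfsg

variable (X : Type*) [Group X] (W : Type*) [AddCommGroup W] [DistribMulAction X W]

/-- Characteristic two, faithful, quadratic `2`-subgroups, no inverted element of order three. -/
structure Setting : Prop where
  char : ∀ w : W, w + w = 0
  faithful : ∀ x : X, (∀ w : W, x • w = w) → x = 1
  quad : ∀ R : Subgroup X, IsPGroup 2 R → ∀ a ∈ R, ∀ b ∈ R, ∀ w : W, a • (b • w - w) = b • w - w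
  noS3 : ∀ e k : X, e * e = 1 → orderOf k = 3 → e * k * e⁻¹ = k⁻¹ → False

variable {X W} [Finite X] [Finite W]

/-- The hypotheses on `(Y, U, E)` that are shown to be contradictory. -/
structure Bad (Y : Subgroup X) (U : AddSubgroup W) (E : Subgroup X) : Prop where
  invariant : ∀ y ∈ Y, ∀ u ∈ U, y • u ∈ U
  kernel : ∀ y ∈ Y, (∀ u ∈ U, y • u = u) → ∃ k : ℕ, y ^ 2 ^ k = 1
  le : E ≤ Y
  pgroup : IsPGroup 2 E
  ne_bot : E ≠ ⊥
  disjoint : E ⊓ twoCore Y = ⊥
  offender : Nat.card U ≤ Nat.card E * Nat.card (fixPts E U)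

variable (h : Setting X W)
include h

omit [Finite X] [Finite W] in
theorem Setting.sub_eq_add (v w : W) : v - w = v + w := by
  rw [sub_eq_add_neg, neg_eq_of_add_eq_zero_left (h.char w)]

omit [Finite X] [Finite W] in
theorem Setting.mul_self {R : Subgroup X} (hR : IsPGroup 2 R) {a : X} (ha : a ∈ R) : a * a = 1 := by
  refine h.faithful _ fun w => ?_
  have e := h.quad R hR a ha a ha w
  rw [smul_sub, ← mul_smul, sub_eq_iff_eq_add] at e
  rw [e, h.sub_eq_add, show a • w + w + a • w = a • w + a • w + w by abel, h.char, zero_add]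

omit [Finite X] [Finite W] in
theorem Setting.comm {R : Subgroup X} (hR : IsPGroup 2 R) {a b : X} (ha : a ∈ R) (hb : b ∈ R) :
    a * b = b * a := by
  calc a * b = (a * b)⁻¹ := eq_inv_of_mul_eq_one_left (h.mul_self hR (R.mul_mem ha hb))
    _ = b⁻¹ * a⁻¹ := mul_inv_rev a b
    _ = b * a := by rw [inv_eq_of_mul_eq_one_left (h.mul_self hR ha), inv_eq_of_mul_eq_one_left (h.mul_self hR hb)]

omit [Finite X] [Finite W] in
theorem Setting.inv_eq {R : Subgroup X} (hR : IsPGroup 2 R) {a : X} (ha : a ∈ R) : a⁻¹ = a :=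
  inv_eq_of_mul_eq_one_left (h.mul_self hR ha)

/-- A `2`-group `R` normalized by the subgroup `Z` commutes with the `2`-elements of `Z`. -/
theorem Setting.comm_of_normalizes {R E : Subgroup X} (hR : IsPGroup 2 R) (hE : IsPGroup 2 E)
    (hn : ∀ e ∈ E, ∀ r ∈ R, e * r * e⁻¹ ∈ R) {e r : X} (he : e ∈ E) (hr : r ∈ R) : e * r = r * e := by
  have hn' : E ≤ Subgroup.normalizer (R : Set X) := fun e he =>
    Subgroup.mem_normalizer_fintype fun r hr => hn e he r hr
  exact h.comm (IsPGroup.to_sup_of_normal_left' hR hE hn') (Subgroup.mem_sup_right he)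
    (Subgroup.mem_sup_left hr)

/-- Passing to the centralizer of a `2`-subgroup and its fixed points. -/
theorem Setting.kernel_fix {Y D : Subgroup X} {U : AddSubgroup W}
    (hU : ∀ y ∈ Y, ∀ u ∈ U, y • u ∈ U) (hker : ∀ y ∈ Y, (∀ u ∈ U, y • u = u) → ∃ k : ℕ, y ^ 2 ^ k = 1)
    (hD : IsPGroup 2 D) (hDY : D ≤ Y) {y : X} (hy : y ∈ Y) (hyD : ∀ d ∈ D, d * y = y * d)
    (hfix : ∀ u ∈ fixPts D U, y • u = u) : ∃ k : ℕ, y ^ 2 ^ k = 1 := by
  obtain ⟨k, m, hm, hkm⟩ :=
    Nat.exists_eq_pow_mul_and_not_dvd (orderOf_pos y).ne' 2 (by norm_num)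
  have hodd : Odd (orderOf (y ^ 2 ^ k)) := by
    rw [orderOf_pow_of_dvd (by positivity) ⟨m, hkm⟩, hkm, Nat.mul_div_cancel_left _ (by positivity)]
    exact Nat.odd_iff.mpr (by omega)
  have hfix' : ∀ i : ℕ, ∀ u ∈ fixPts D U, y ^ i • u = u := by
    intro i
    induction i with
    | zero => intro u _; simp
    | succ i ih => intro u hu; rw [pow_succ, mul_smul, hfix u hu, ih u hu]
  have hall := fix_of_fix_fixPts h.char hD hodd
    (fun d hd => ((show Commute d y from hyD d hd).pow_right _).eq)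
    (hU _ (Y.pow_mem hy _)) (fun d hd => hU d (hDY hd)) (hfix' _)
  obtain ⟨j, hj⟩ := hker _ (Y.pow_mem hy _) hall
  exact ⟨k + j, by rw [pow_add, pow_mul, hj]⟩

theorem Setting.not_bad : ∀ (n : ℕ) (Y : Subgroup X) (U : AddSubgroup W) (E : Subgroup X),
    Nat.card E + Nat.card Y + Nat.card U ≤ n → Bad Y U E → False := by
  intro n
  induction n using Nat.strong_induction_on with
  | _ n ih => ?_
  intro Y U E hn hbad
  obtain ⟨hU, hker, hEY, hE, hE1, hEO, hoff⟩ := hbad
  classical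
  haveI : Fact (Nat.Prime 2) := ⟨Nat.prime_two⟩
  have rec' : ∀ (Y' : Subgroup X) (U' : AddSubgroup W) (E' : Subgroup X), Bad Y' U' E' →
      Nat.card E' + Nat.card Y' + Nat.card U' < Nat.card E + Nat.card Y + Nat.card U → False :=
    fun Y' U' E' hb hlt => ih _ (lt_of_lt_of_le hlt hn) Y' U' E' le_rfl hb
  have cardY : ∀ {A B : Subgroup X}, A < B → Nat.card A < Nat.card B := fun hAB =>
    Set.Finite.card_lt_card (Set.toFinite _) hAB
  have cardY' : ∀ {A B : Subgroup X}, A ≤ B → Nat.card A ≤ Nat.card B := fun hAB =>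
    Subgroup.card_le_of_le hAB
  have cardW : ∀ {A B : AddSubgroup W}, A ≤ B → Nat.card A ≤ Nat.card B := fun {A B} hAB =>
    Nat.card_le_card_of_injective (fun a : A => (⟨a, hAB a.2⟩ : B)) fun a b e =>
      Subtype.ext (congrArg (fun z : B => (z : W)) e :)
  -- the core centralises `Y` and fixes `U`
  set D := twoCore Y with hD
  have hDfix : (∀ y ∈ Y, ∀ d ∈ D, d * y = y * d) ∧ ∀ d ∈ D, ∀ u ∈ U, d • u = u := by
    by_contra hnot
    set Y1 := Y ⊓ Subgroup.centralizer (D : Set X)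
    have hY1n : ∀ y ∈ Y, ∀ z ∈ Y1, y * z * y⁻¹ ∈ Y1 := by
      refine fun y hy z hz => ⟨Y.mul_mem (Y.mul_mem hy hz.1) (Y.inv_mem hy),
        Subgroup.mem_centralizer_iff.mpr fun d hd => ?_⟩
      have h1 := Subgroup.mem_centralizer_iff.mp hz.2 (y⁻¹ * d * y) (by
        simpa using twoCore_conj (Y.inv_mem hy) hd)
      calc d * (y * z * y⁻¹) = y * ((y⁻¹ * d * y) * z) * y⁻¹ := by group
        _ = y * z * y⁻¹ * d := by rw [h1]; group
    set U1 := fixPts D U
    have hb : Bad Y1 U1 E := by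
      refine ⟨fun y hy u hu => ⟨hU y hy.1 u hu.1, fun d hd => ?_⟩,
        fun y hy hf => h.kernel_fix hU hker (isPGroup_twoCore Y) (twoCore_le Y) hy.1
          (Subgroup.mem_centralizer_iff.mp hy.2) hf,
        le_inf hEY fun e he => Subgroup.mem_centralizer_iff.mpr fun d hd =>
          (h.comm_of_normalizes (isPGroup_twoCore Y) hE (fun a ha r hr => twoCore_conj (hEY ha) hr) he hd).symm,
        hE, hE1, le_bot_iff.mp ((inf_le_inf_left E (twoCore_le_twoCore inf_le_left hY1n)).trans hEO.le), ?_⟩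
      · rw [← mul_smul, Subgroup.mem_centralizer_iff.mp hy.2 d hd, mul_smul, hu.2 d hd]
      · have h1 := card_mul_card_le_of_le (fixPts_le E U) (fixPts_le D U)
        have h2 : fixPts E U ⊓ U1 ≤ fixPts E U1 := fun w hw => ⟨hw.2, hw.1.2⟩
        refine Nat.le_of_mul_le_mul_left ?_ (Nat.card_pos (α := fixPts E U))
        calc Nat.card (fixPts E U) * Nat.card U1 ≤ Nat.card U * Nat.card ↥(fixPts E U ⊓ U1) := h1
          _ ≤ Nat.card E * Nat.card (fixPts E U) * Nat.card (fixPts E U1) := Nat.mul_le_mul hoff (cardW h2)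
          _ = _ := by ring
    have l1 : Nat.card Y1 ≤ Nat.card Y := cardY' inf_le_left
    have l2 : Nat.card U1 ≤ Nat.card U := cardW (fixPts_le D U)
    refine rec' Y1 U1 E hb ?_
    have hY1Y : Y1 ≤ Y := inf_le_left
    have hU1U : U1 ≤ U := fixPts_le D U
    rcases lt_or_eq_of_le hY1Y with hlt | heq
    · have h3 : Nat.card Y1 < Nat.card Y := cardY hlt
      omega
    · rcases lt_or_eq_of_le hU1U with hlt | heq'
      · have h3 : Nat.card U1 < Nat.card U := Set.Finite.card_lt_card (Set.toFinite _) hlt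
        omega
      · exact absurd ⟨fun y hy d hd => Subgroup.mem_centralizer_iff.mp
          (show y ∈ Y1 by rw [heq]; exact hy).2 d hd,
          fun d hd u hu => (show u ∈ U1 by rw [heq']; exact hu).2 d hd⟩ hnot
  -- centralizers of involutions of an offender
  let Good : Subgroup X → Prop := fun E' => Bad Y U E' ∧ Nat.card E' = Nat.card E
  have step1 : ∀ E' : Subgroup X, Good E' → ∀ b ∈ E', b ≠ 1 →
      E' ≤ twoCore (Y ⊓ Subgroup.centralizer ({b} : Set X)) := by
    rintro E' ⟨⟨-, -, hE'Y, hE', hE'1, hE'O, hoff'⟩, hcE⟩ b hb hb1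
    set C := Y ⊓ Subgroup.centralizer ({b} : Set X)
    set D' := twoCore C
    by_contra hnot
    have hE'C : E' ≤ C := le_inf hE'Y fun e he =>
      Subgroup.mem_centralizer_singleton_iff.mpr (h.comm hE' he hb)
    set B0 := E' ⊓ D'
    have hbD : b ∈ D' := by
      refine le_twoCore (R := Subgroup.zpowers b) (Subgroup.zpowers_le.mpr (hE'C hb))
        (hE'.to_le (Subgroup.zpowers_le.mpr hb)) (fun y hy r hr => ?_) (Subgroup.mem_zpowers b)
      obtain ⟨i, rfl⟩ := Subgroup.mem_zpowers_iff.mp hr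
      have hc : Commute y b := Subgroup.mem_centralizer_singleton_iff.mp hy.2
      rw [(hc.zpow_right i).eq, mul_inv_cancel_right]
      exact Subgroup.zpow_mem _ (Subgroup.mem_zpowers b) i
    have hB0 : B0 < E' := lt_of_le_of_ne inf_le_left fun he => hnot (inf_eq_left.mp he)
    have hsmallB : ¬ Nat.card U ≤ Nat.card B0 * Nat.card (fixPts B0 U) := fun hoffB =>
      rec' Y U B0 ⟨hU, hker, inf_le_left.trans hE'Y, hE'.to_le inf_le_left,
        fun hbot => hb1 (Subgroup.mem_bot.mp (hbot ▸ (⟨hb, hbD⟩ : b ∈ B0))),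
        le_bot_iff.mp ((inf_le_inf_right _ inf_le_left).trans hE'O.le), hoffB⟩
        (by have := cardY hB0; omega)
    -- a complement
    obtain ⟨E1, hE1E, hcompl⟩ : ∃ E1 : Subgroup X, (E1 ≤ E' ∧ E1 ⊓ B0 = ⊥) ∧
        ∀ x ∈ E', ∃ u ∈ E1, ∃ v ∈ B0, x = u * v := by
      obtain ⟨E1, hE1, hmax⟩ := Set.exists_max_image {T : Subgroup X | T ≤ E' ∧ T ⊓ B0 = ⊥}
        (fun T => Nat.card T) (Set.toFinite _) ⟨⊥, bot_le, bot_inf_eq _⟩
      refine ⟨E1, hE1, fun x hx => ?_⟩
      by_contra! hno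
      let T : Subgroup X :=
        { carrier := {t | t ∈ E' ∧ (t ∈ E1 ∨ x * t ∈ E1)}
          one_mem' := ⟨E'.one_mem, Or.inl E1.one_mem⟩
          mul_mem' := by
            rintro s t ⟨hs, hs'⟩ ⟨ht, ht'⟩
            refine ⟨E'.mul_mem hs ht, ?_⟩
            rcases hs' with hs' | hs' <;> rcases ht' with ht' | ht'
            · exact Or.inl (E1.mul_mem hs' ht')
            · refine Or.inr ?_
              rw [← mul_assoc, h.comm hE' hx hs, mul_assoc]
              exact E1.mul_mem hs' ht'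
            · refine Or.inr ?_
              rw [← mul_assoc]
              exact E1.mul_mem hs' ht'
            · refine Or.inl ?_
              have : x * s * (x * t) = s * t := by
                rw [h.comm hE' hx hs, mul_assoc, ← mul_assoc x x t, h.mul_self hE' hx, one_mul]
              rw [← this]
              exact E1.mul_mem hs' ht'
          inv_mem' := by
            rintro t ⟨ht, ht'⟩
            rw [h.inv_eq hE' ht]
            exact ⟨ht, ht'⟩ }
      have hxT : x ∈ T := ⟨hx, Or.inr (by rw [h.mul_self hE' hx]; exact E1.one_mem)⟩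
      have hlt : E1 < T := lt_of_le_of_ne (fun t ht => ⟨hE1.1 ht, Or.inl ht⟩) fun he =>
        hno x (he.symm ▸ hxT) 1 B0.one_mem (mul_one x).symm
      have hTB : T ⊓ B0 = ⊥ := by
        refine le_bot_iff.mp ?_
        rintro t ⟨⟨ht, ht' | ht'⟩, htB⟩
        · exact hE1.2.le ⟨ht', htB⟩
        · exact absurd (show x = x * t * t⁻¹ by group) (hno (x * t) ht' t⁻¹ (B0.inv_mem htB))
      exact absurd (hmax T ⟨fun t ht => ht.1, hTB⟩) (not_le.mpr (cardY hlt))
    have hcard : Nat.card E' ≤ Nat.card E1 * Nat.card B0 := by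
      rw [← Nat.card_prod]
      refine Nat.card_le_card_of_surjective
        (fun z : E1 × B0 => (⟨(z.1 : X) * z.2, E'.mul_mem (hE1E.1 z.1.2) z.2.2.1⟩ : E')) fun x => ?_
      obtain ⟨u, hu, v, hv, e⟩ := hcompl x x.2
      exact ⟨(⟨u, hu⟩, ⟨v, hv⟩), Subtype.ext e.symm⟩
    have hE1lt : E1 < E' := lt_of_le_of_ne hE1E.1 fun he => by
      have hmem : b ∈ E1 ⊓ B0 := ⟨he.symm ▸ hb, hb, hbD⟩
      rw [hE1E.2] at hmem
      exact hb1 (Subgroup.mem_bot.mp hmem)
    -- the smaller configuration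
    set Y' := C ⊓ Subgroup.centralizer (D' : Set X)
    set U' := fixPts D' U
    have hY'n : ∀ y ∈ C, ∀ z ∈ Y', y * z * y⁻¹ ∈ Y' := by
      refine fun y hy z hz => ⟨C.mul_mem (C.mul_mem hy hz.1) (C.inv_mem hy),
        Subgroup.mem_centralizer_iff.mpr fun d hd => ?_⟩
      have h1 := Subgroup.mem_centralizer_iff.mp hz.2 (y⁻¹ * d * y) (by
        simpa using twoCore_conj (C.inv_mem hy) hd)
      calc d * (y * z * y⁻¹) = y * ((y⁻¹ * d * y) * z) * y⁻¹ := by group
        _ = y * z * y⁻¹ * d := by rw [h1]; group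
    have hfixeq : fixPts E1 U' ≤ fixPts E' U' ∧ fixPts E' U ⊓ U' ≤ fixPts E1 U' := by
      refine ⟨fun w hw => ⟨hw.1, fun x hx => ?_⟩, fun w hw => ⟨hw.2, fun e he => hw.1.2 e (hE1E.1 he)⟩⟩
      obtain ⟨u, hu, v, hv, rfl⟩ := hcompl x hx
      rw [mul_smul, hw.1.2 v hv.2, hw.2 u hu]
    have hb' : Bad Y' U' E1 := by
      refine ⟨fun y hy u hu => ⟨hU y hy.1.1 u hu.1, fun d hd => ?_⟩,
        fun y hy hf => h.kernel_fix hU hker (isPGroup_twoCore C) ((twoCore_le C).trans inf_le_left) hy.1.1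
          (Subgroup.mem_centralizer_iff.mp hy.2) hf,
        le_inf (hE1E.1.trans hE'C) fun e he => Subgroup.mem_centralizer_iff.mpr fun d hd =>
          (h.comm_of_normalizes (isPGroup_twoCore C) hE' (fun a ha r hr => twoCore_conj (hE'C ha) hr)
            (hE1E.1 he) hd).symm,
        hE'.to_le hE1E.1, ?_, ?_, ?_⟩
      · rw [← mul_smul, Subgroup.mem_centralizer_iff.mp hy.2 d hd, mul_smul, hu.2 d hd]
      · rintro rfl
        refine hnot fun x hx => ?_
        obtain ⟨u, hu, v, hv, rfl⟩ := hcompl x hx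
        rw [Subgroup.mem_bot.mp hu, one_mul]
        exact hv.2
      · refine le_bot_iff.mp fun t ht => hE1E.2.le ⟨ht.1, hE1E.1 ht.1, ?_⟩
        exact twoCore_le_twoCore inf_le_left hY'n ht.2
      · have h0 : U' ≤ fixPts B0 U := fixPts_anti inf_le_right U
        have h1 := card_mul_card_le_of_le (fixPts_anti (inf_le_left : B0 ≤ E') U) h0
        have h2 := cardW hfixeq.2
        refine Nat.le_of_mul_le_mul_left ?_
          (Nat.mul_pos (Nat.card_pos (α := B0)) (Nat.card_pos (α := fixPts E' U)))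
        calc Nat.card B0 * Nat.card (fixPts E' U) * Nat.card U'
            = Nat.card B0 * (Nat.card (fixPts E' U) * Nat.card U') := mul_assoc _ _ _
          _ ≤ Nat.card B0 * (Nat.card (fixPts B0 U) * Nat.card ↥(fixPts E' U ⊓ U')) :=
              Nat.mul_le_mul_left _ h1
          _ ≤ Nat.card U * Nat.card (fixPts E1 U') := by
              rw [← mul_assoc]
              exact Nat.mul_le_mul (le_of_lt (not_le.mp hsmallB)) h2
          _ ≤ Nat.card E1 * Nat.card B0 * Nat.card (fixPts E' U) * Nat.card (fixPts E1 U') :=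
              Nat.mul_le_mul_right _ (hoff'.trans (Nat.mul_le_mul_right _ hcard))
          _ = _ := by ring
    refine rec' Y' U' E1 hb' ?_
    have := cardY hE1lt
    have : Nat.card Y' ≤ Nat.card Y := cardY' (inf_le_left.trans inf_le_left)
    have : Nat.card U' ≤ Nat.card U := cardW (fixPts_le D' U)
    omega
  -- proper overgroups
  have step2 : ∀ E' : Subgroup X, Good E' → ∀ Z : Subgroup X, Z < Y → E' ≤ Z → E' ≤ twoCore Z := by
    intro E' hg Z hZ hEZ
    obtain ⟨⟨-, -, -, hE', hE'1, -, hoff'⟩, hcE⟩ := id hg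
    by_cases hdis : E' ⊓ twoCore Z = ⊥
    · exact (rec' Z U E' ⟨fun y hy => hU y (hZ.le hy), fun y hy => hker y (hZ.le hy), hEZ, hE', hE'1,
        hdis, hoff'⟩ (by have := cardY hZ; omega)).elim
    obtain ⟨b, hb, hb1⟩ : ∃ b ∈ E' ⊓ twoCore Z, b ≠ 1 := by
      by_contra! hno
      exact hdis ((Subgroup.eq_bot_iff_forall _).mpr hno)
    set Z1 := Z ⊓ Subgroup.centralizer (twoCore Z : Set X)
    have hZ1n : ∀ y ∈ Z, ∀ z ∈ Z1, y * z * y⁻¹ ∈ Z1 := by
      refine fun y hy z hz => ⟨Z.mul_mem (Z.mul_mem hy hz.1) (Z.inv_mem hy),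
        Subgroup.mem_centralizer_iff.mpr fun d hd => ?_⟩
      have h1 := Subgroup.mem_centralizer_iff.mp hz.2 (y⁻¹ * d * y) (by
        simpa using twoCore_conj (Z.inv_mem hy) hd)
      calc d * (y * z * y⁻¹) = y * ((y⁻¹ * d * y) * z) * y⁻¹ := by group
        _ = y * z * y⁻¹ * d := by rw [h1]; group
    have hEZ1 : E' ≤ Z1 := le_inf hEZ fun e he => Subgroup.mem_centralizer_iff.mpr fun d hd =>
      (h.comm_of_normalizes (isPGroup_twoCore Z) hE' (fun a ha r hr => twoCore_conj (hEZ ha) hr) he hd).symm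
    set C := Y ⊓ Subgroup.centralizer ({b} : Set X)
    have hZ1C : Z1 ≤ C := fun z hz => ⟨hZ.le hz.1, Subgroup.mem_centralizer_singleton_iff.mpr
      (Subgroup.mem_centralizer_iff.mp hz.2 b hb.2).symm⟩
    have hR : twoCore C ⊓ Z1 ≤ twoCore Z1 :=
      le_twoCore inf_le_right ((isPGroup_twoCore C).to_le inf_le_left) fun y hy r hr =>
        ⟨twoCore_conj (hZ1C hy) hr.1, Z1.mul_mem (Z1.mul_mem hy hr.2) (Z1.inv_mem hy)⟩
    exact fun e he => twoCore_le_twoCore inf_le_left hZ1n (hR ⟨step1 E' hg b hb.1 hb1 he, hEZ1 he⟩)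
  -- conjugates
  let cj : X → Subgroup X → Subgroup X := fun g A => A.map (MulAut.conj g).toMonoidHom
  have hinv : ∀ A : Subgroup X, A ≤ Y → ∀ g ∈ Y, cj g A ≤ Y := by
    rintro A hA g hg _ ⟨a, ha, rfl⟩
    exact Y.mul_mem (Y.mul_mem hg (hA ha)) (Y.inv_mem hg)
  have hcardcj : ∀ (g : X) (A : Subgroup X), Nat.card (cj g A) = Nat.card A := fun g A =>
    Subgroup.card_map_of_injective (MulAut.conj g).injective
  have hfixcj : ∀ A : Subgroup X, ∀ g ∈ Y, Nat.card (fixPts (cj g A) U) = Nat.card (fixPts A U) := by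
    intro A g hg
    refine Nat.card_congr
      { toFun := fun w => ⟨g⁻¹ • (w : W), hU _ (Y.inv_mem hg) _ w.2.1, fun a ha => by
          have e : (g * a * g⁻¹) • (w : W) = w := w.2.2 _ ⟨a, ha, rfl⟩
          rw [mul_smul, mul_smul] at e
          calc a • g⁻¹ • (w : W) = g⁻¹ • g • a • g⁻¹ • (w : W) := (inv_smul_smul g _).symm
            _ = g⁻¹ • (w : W) := by rw [e]⟩
        invFun := fun w => ⟨g • (w : W), hU _ hg _ w.2.1, by
          rintro _ ⟨a, ha, rfl⟩
          show (g * a * g⁻¹) • g • (w : W) = g • (w : W)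
          rw [mul_smul, mul_smul, inv_smul_smul, w.2.2 a ha]⟩
        left_inv := fun w => Subtype.ext (smul_inv_smul g (w : W))
        right_inv := fun w => Subtype.ext (inv_smul_smul g (w : W)) }
  have hgood : ∀ A, Good A → ∀ g ∈ Y, Good (cj g A) := by
    rintro A ⟨⟨-, -, hAY, hA, hA1, hAO, hoffA⟩, hcA⟩ g hg
    refine ⟨⟨hU, hker, hinv A hAY g hg, hA.map _, ?_, ?_, ?_⟩, (hcardcj g A).trans hcA⟩
    · rwa [Ne, Subgroup.map_eq_bot_iff_of_injective A (MulAut.conj g).injective]
    · refine le_bot_iff.mp ?_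
      rintro _ ⟨⟨a, ha, rfl⟩, h2⟩
      have h3 : a ∈ A ⊓ D := ⟨ha, by simpa [mul_assoc] using twoCore_conj (Y.inv_mem hg) h2⟩
      rw [hAO] at h3
      rw [Subgroup.mem_bot] at h3 ⊢
      rw [h3, map_one]
    · rw [hcardcj, hfixcj A g hg]
      exact hoffA
  have hgoodE : Good E := ⟨⟨hU, hker, hEY, hE, hE1, hEO, hoff⟩, rfl⟩
  have hYnot : ¬ IsPGroup 2 Y := by
    intro hp
    refine hE1 ((inf_eq_left.mpr ?_).symm.trans hEO)
    exact hEY.trans (le_twoCore le_rfl hp fun y hy r hr => Y.mul_mem (Y.mul_mem hy hr) (Y.inv_mem hy))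
  -- a conjugate generating `Y` with `E`
  obtain ⟨g, hg, hnp⟩ : ∃ g ∈ Y, ¬ IsPGroup 2 ↥(E ⊔ cj g E) := by
    by_contra! hall
    obtain ⟨a, ha, ha1⟩ : ∃ a ∈ E, a ≠ 1 := by
      by_contra! hno
      exact hE1 ((Subgroup.eq_bot_iff_forall _).mpr hno)
    obtain ⟨N, hN, hN2, haN⟩ := Small.baerSuzuki_elem (p := 2) (⟨a, hEY ha⟩ : Y) (fun y => by
      refine ((hall y y.2).comap_subtype (K := Y)).to_le ((Subgroup.closure_le _).mpr ?_)
      intro z hz
      simp only [Set.mem_insert_iff, Set.mem_singleton_iff] at hz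
      rcases hz with rfl | rfl
      · exact Subgroup.mem_sup_left ha
      · exact Subgroup.mem_sup_right ⟨a, ha, rfl⟩)
    have h3 : a ∈ E ⊓ D := ⟨ha, ⟨⟨a, hEY ha⟩, PLocal.le_pCore hN2 haN, rfl⟩⟩
    rw [hEO, Subgroup.mem_bot] at h3
    exact ha1 h3
  set F := cj g E with hF
  have hgoodF : Good F := hgood E hgoodE g hg
  have hsup : E ⊔ F = Y := by
    refine eq_of_le_of_not_lt (sup_le hEY hgoodF.1.le) fun hlt => hnp ?_
    exact (isPGroup_twoCore (E ⊔ F)).to_le
      (sup_le (step2 E hgoodE _ hlt le_sup_left) (step2 F hgoodF _ hlt le_sup_right))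
  have hgen : ∀ A B : Subgroup X, Good A → Good B → A ⊔ B = Y → ∀ a ∈ A, a ≠ 1 →
      Subgroup.zpowers a ⊔ B = Y := by
    intro A B hA hB hAB a ha ha1
    refine eq_of_le_of_not_lt (sup_le (Subgroup.zpowers_le.mpr (hA.1.le ha)) hB.1.le) fun hlt => ha1 ?_
    have hZ2 : IsPGroup 2 ↥(Subgroup.zpowers a ⊔ B) := by
      refine (IsPGroup.to_sup_of_normal_left' (isPGroup_twoCore (Subgroup.zpowers a ⊔ B))
        (hA.1.pgroup.to_le (Subgroup.zpowers_le.mpr ha)) (le_sup_left.trans (le_normalizer_twoCore _))).to_le ?_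
      exact sup_le le_sup_right ((step2 B hB _ hlt le_sup_right).trans le_sup_left)
    have hcen : Y ≤ Subgroup.centralizer ({a} : Set X) := hAB ▸ sup_le
      (fun x hx => Subgroup.mem_centralizer_singleton_iff.mpr (h.comm hA.1.pgroup hx ha))
      (fun x hx => Subgroup.mem_centralizer_singleton_iff.mpr
        (h.comm hZ2 (Subgroup.mem_sup_right hx) (Subgroup.mem_sup_left (Subgroup.mem_zpowers a))))
    have h3 : a ∈ A ⊓ D := ⟨ha, by
      refine le_twoCore (R := Subgroup.zpowers a) (Subgroup.zpowers_le.mpr (hA.1.le ha))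
        (hA.1.pgroup.to_le (Subgroup.zpowers_le.mpr ha)) (fun y hy r hr => ?_) (Subgroup.mem_zpowers a)
      obtain ⟨i, rfl⟩ := Subgroup.mem_zpowers_iff.mp hr
      have hc : Commute y a := Subgroup.mem_centralizer_singleton_iff.mp (hcen hy)
      rw [(hc.zpow_right i).eq, mul_inv_cancel_right]
      exact Subgroup.zpow_mem _ (Subgroup.mem_zpowers a) i⟩
    rw [hA.1.disjoint, Subgroup.mem_bot] at h3
    exact h3
  set Z0 := fixPts Y U with hZ0
  have hzfix : ∀ {A : Subgroup X}, Good A → Z0 ≤ fixPts A U := fun hA => fixPts_anti hA.1.le U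
  have hinj : ∀ A B : Subgroup X, Good A → Good B → A ⊔ B = Y → ∀ y ∈ fixPts B U, y ∉ Z0 →
      ∀ a ∈ A, a ≠ 1 → a • y - y ∉ Z0 := by
    intro A B hA hB hAB y hy hyZ a ha ha1 hz
    have haY := hA.1.le ha
    have haa := h.mul_self hA.1.pgroup ha
    set B' := cj a B
    have hst : B ⊔ B' ≤ stab y := by
      refine sup_le (fun b hb => mem_stab.mpr (hy.2 b hb)) ?_
      rintro _ ⟨b, hb, rfl⟩
      refine mem_stab.mpr ?_
      have e1 : a • y = y + (a • y - y) := by rw [add_sub_cancel]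
      have e2 : b • (a • y) = a • y := by
        rw [e1, smul_add, hy.2 b hb, hz.2 b (hB.1.le hb)]
      show (a * b * a⁻¹) • y = y
      rw [h.inv_eq hA.1.pgroup ha, mul_smul, mul_smul, e2, ← mul_smul, haa, one_smul]
    rcases lt_or_eq_of_le (sup_le hB.1.le (hgood B hB a haY).1.le : B ⊔ B' ≤ Y) with hlt | heq
    · refine hYnot ?_
      have hp : IsPGroup 2 ↥(B ⊔ B') := (isPGroup_twoCore (B ⊔ B')).to_le
        (sup_le (step2 B hB _ hlt le_sup_left) (step2 B' (hgood B hB a haY) _ hlt le_sup_right))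
      have han : Subgroup.zpowers a ≤ Subgroup.normalizer ((B ⊔ B' : Subgroup X) : Set X) := by
        refine Subgroup.zpowers_le.mpr (Subgroup.mem_normalizer_fintype fun m hm => ?_)
        have hle : (B ⊔ B').map (MulAut.conj a).toMonoidHom ≤ B ⊔ B' := by
          rw [Subgroup.map_sup]
          refine sup_le le_sup_right ?_
          rintro _ ⟨_, ⟨b, hb, rfl⟩, rfl⟩
          refine Subgroup.mem_sup_left ?_
          show a * (a * b * a⁻¹) * a⁻¹ ∈ B
          rw [h.inv_eq hA.1.pgroup ha,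
            show a * (a * b * a) * a = a * a * b * (a * a) by group, haa, one_mul, mul_one]
          exact hb
        exact hle ⟨m, hm, rfl⟩
      refine (IsPGroup.to_sup_of_normal_left' hp (hA.1.pgroup.to_le (Subgroup.zpowers_le.mpr ha)) han).to_le ?_
      rw [← hgen A B hA hB hAB a ha ha1]
      exact sup_le le_sup_right (le_sup_left.trans le_sup_left)
    · exact hyZ ⟨hy.1, fun x hx => mem_stab.mp (hst (heq.symm ▸ hx))⟩
  set UE := fixPts E U with hUE
  set UF := fixPts F U with hUF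
  have huEF : Nat.card UF = Nat.card UE := hfixcj E g hg
  have hmove : ∀ A : Subgroup X, Good A → ∀ a ∈ A, ∀ u ∈ U, a • u - u ∈ fixPts A U := fun A hA a ha u hu =>
    ⟨U.sub_mem (hU a (hA.1.le ha) u hu) hu, fun e he => h.quad A hA.1.pgroup e he a ha u⟩
  have hnoncentral : ¬ UF ≤ Z0 := by
    intro hle
    have hEle : UE ≤ Z0 := fun w hw => by
      have he : (Z0 : Set W) = (UE : Set W) := Set.eq_of_subset_of_ncard_le (hzfix hgoodE) (by
        rw [← Nat.card_coe_set_eq, ← Nat.card_coe_set_eq]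
        exact (huEF.ge.trans (cardW hle))) (Set.toFinite _)
      exact (Set.ext_iff.mp he w).mpr hw
    let St : Subgroup X :=
      { carrier := {x | x ∈ Y ∧ ∀ u ∈ U, x • u - u ∈ Z0}
        one_mem' := ⟨Y.one_mem, fun u _ => by rw [one_smul, sub_self]; exact Z0.zero_mem⟩
        mul_mem' := by
          rintro x y ⟨hx, hx'⟩ ⟨hy, hy'⟩
          refine ⟨Y.mul_mem hx hy, fun u hu => ?_⟩
          rw [mul_smul, show x • y • u - u = (x • (y • u) - y • u) + (y • u - u) by abel]
          exact Z0.add_mem (hx' _ (hU y hy u hu)) (hy' u hu)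
        inv_mem' := by
          rintro x ⟨hx, hx'⟩
          refine ⟨Y.inv_mem hx, fun u hu => ?_⟩
          have := Z0.neg_mem (hx' _ (hU _ (Y.inv_mem hx) u hu))
          rwa [smul_inv_smul, neg_sub] at this }
    have hYSt : Y ≤ St := hsup.ge.trans (sup_le (fun e he => ⟨hEY he, fun u hu => hEle (hmove E hgoodE e he u hu)⟩)
      (fun f hf => ⟨hgoodF.1.le hf, fun u hu => hle (hmove F hgoodF f hf u hu)⟩))
    refine hYnot fun y => ?_
    obtain ⟨k, hk⟩ := hker _ (Y.pow_mem y.2 2) fun u hu => by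
      have hz := (hYSt y.2).2 u hu
      have e2 := hz.2 _ y.2
      rw [smul_sub] at e2
      calc (y : X) ^ 2 • u = (y : X) • (y : X) • u := by rw [sq, mul_smul]
        _ = ((y : X) • (y : X) • u - (y : X) • u) + ((y : X) • u - u) + u := by abel
        _ = u := by rw [e2, h.char, zero_add]
    exact ⟨k + 1, Subtype.ext (by rw [pow_succ', pow_mul]; simpa using hk)⟩
  obtain ⟨y₀, hy₀, hy₀Z⟩ := SetLike.not_le_iff_exists.mp hnoncentral
  -- surjectivity
  have hcount : ∀ y ∈ UF, y ∉ Z0 → ∀ w ∈ UE, ∃ e ∈ E, e • y - y - w ∈ Z0 := by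
    intro y hy hyZ w hw
    set Q := UE ⧸ Z0.addSubgroupOf UE
    let ψ : E → Q := fun e => QuotientAddGroup.mk (⟨(e : X) • y - y, hmove E hgoodE e e.2 y hy.1⟩ : UE)
    have hψ : Function.Injective ψ := by
      intro e e' hee
      have hm : -((e : X) • y - y) + ((e' : X) • y - y) ∈ Z0 :=
        AddSubgroup.mem_addSubgroupOf.mp ((QuotientAddGroup.eq (s := Z0.addSubgroupOf UE)).mp hee)
      have hq := h.quad E hE e e.2 e' e'.2 y
      have e3 : ((e * e' : E) : X) • y - y = -((e : X) • y - y) + ((e' : X) • y - y) := by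
        rw [neg_eq_of_add_eq_zero_left (h.char ((e : X) • y - y)), Subgroup.coe_mul, mul_smul]
        rw [smul_sub, sub_eq_iff_eq_add] at hq
        rw [hq]
        abel
      rw [← e3] at hm
      by_contra hne
      refine hinj E F hgoodE hgoodF hsup y hy hyZ _ (e * e').2 (fun h1 => hne (Subtype.ext ?_)) hm
      rw [Subgroup.coe_mul] at h1
      exact ((eq_inv_of_mul_eq_one_right h1).trans (h.inv_eq hE e.2)).symm
    have hq : Nat.card Z0 * Nat.card Q = Nat.card UE := card_mul_relIndex' (hzfix hgoodE)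
    have hle : Nat.card Q ≤ Nat.card E := by
      have h1 := card_mul_card_le_of_le (fixPts_le E U) (fixPts_le F U)
      have h2 : UE ⊓ UF ≤ Z0 := fun v hv =>
        ⟨hv.1.1, fun x hx => mem_stab.mp ((sup_le (fun e he => mem_stab.mpr (hv.1.2 e he))
          (fun f hf => mem_stab.mpr (hv.2.2 f hf)) : E ⊔ F ≤ stab v) (hsup.ge hx))⟩
      have h3 : Nat.card UE * Nat.card UF ≤ Nat.card U * Nat.card Z0 :=
        h1.trans (Nat.mul_le_mul_left _ (cardW h2))
      rw [huEF] at h3
      have h4 : Nat.card UE ≤ Nat.card E * Nat.card Z0 := by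
        refine Nat.le_of_mul_le_mul_right ?_ (Nat.card_pos (α := UE))
        calc Nat.card UE * Nat.card UE ≤ Nat.card U * Nat.card Z0 := h3
          _ ≤ Nat.card E * Nat.card UE * Nat.card Z0 := Nat.mul_le_mul_right _ hoff
          _ = _ := by ring
      rw [← hq, mul_comm] at h4
      exact Nat.le_of_mul_le_mul_right h4 Nat.card_pos
    obtain ⟨e, he⟩ := (hψ.bijective_of_nat_card_le hle).2 (QuotientAddGroup.mk (⟨w, hw⟩ : UE))
    have hm : -((e : X) • y - y) + w ∈ Z0 :=
      AddSubgroup.mem_addSubgroupOf.mp ((QuotientAddGroup.eq (s := Z0.addSubgroupOf UE)).mp he)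
    refine ⟨e, e.2, ?_⟩
    have := Z0.neg_mem hm
    rwa [neg_add, neg_neg, ← sub_eq_add_neg] at this
  obtain ⟨x, hx, hxZ⟩ : ∃ x ∈ UE, x ∉ Z0 := by
    by_contra! hall
    have he : (Z0 : Set W) = (UF : Set W) := Set.eq_of_subset_of_ncard_le (hzfix hgoodF) (by
      rw [← Nat.card_coe_set_eq, ← Nat.card_coe_set_eq]
      exact huEF.le.trans (cardW hall)) (Set.toFinite _)
    exact hy₀Z ((Set.ext_iff.mp he y₀).mpr hy₀)
  obtain ⟨f, hf, hf1⟩ : ∃ f ∈ F, f ≠ 1 := by
    by_contra! hno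
    exact hgoodF.1.ne_bot ((Subgroup.eq_bot_iff_forall _).mpr hno)
  set y := f • x - x with hy
  have hyF : y ∈ UF := hmove F hgoodF f hf x hx.1
  have hyZ : y ∉ Z0 := hinj F E hgoodF hgoodE (by rw [sup_comm, hsup]) x hx hxZ f hf hf1
  obtain ⟨e, he, hez⟩ := hcount y hyF hyZ x hx
  set z := e • y - y - x with hzdef
  set k := e * f with hk
  have hkY : k ∈ Y := Y.mul_mem (hEY he) (hgoodF.1.le hf)
  have hey : e • y = y + x + z := by rw [hzdef]; abel
  have hfx : f • x = x + y := by rw [hy]; abel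
  have hex : e • x = x := hx.2 e he
  have hkx : k • x = y + z := by
    rw [hk, mul_smul, hfx, smul_add, hex, hey,
      show x + (y + x + z) = (x + x) + (y + z) by abel, h.char, zero_add]
  have hky : k • y = y + x + z := by rw [hk, mul_smul, hyF.2 f hf, hey]
  have hk3 : k ^ 3 • x = x := by
    have hmul : ∀ a b c : X, (a * (b * c)) • x = a • b • c • x := fun a b c => by rw [mul_smul, mul_smul]
    rw [show k ^ 3 = k * (k * k) by rw [pow_succ', pow_succ', pow_one], hmul]
    simp only [smul_add, hkx, hky, hez.2 k hkY]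
    rw [show y + x + z + (y + z) + z + z = (y + y) + ((z + z) + (z + z)) + x by abel, h.char, h.char,
      zero_add, zero_add]
  have hkne : k • x ≠ x := fun heq => hxZ (by
    rw [hkx] at heq
    have h1 : y ∈ UE := by
      rw [show y = x - z by rw [← heq]; abel]
      exact UE.sub_mem hx (hzfix hgoodE hez)
    have h2 : y ∈ Z0 := ⟨h1.1, fun u hu => mem_stab.mp ((sup_le (fun e he => mem_stab.mpr (h1.2 e he))
      (fun f hf => mem_stab.mpr (hyF.2 f hf)) : E ⊔ F ≤ stab y) (hsup.ge hu))⟩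
    exact absurd h2 hyZ)
  have h3k : 3 ∣ orderOf k := by
    by_contra hnd
    obtain ⟨m, hm⟩ := exists_pow_eq_self_of_coprime
      ((Nat.prime_three.coprime_iff_not_dvd).mpr hnd)
    exact hkne (mem_stab.mp (hm ▸ (stab x).pow_mem (mem_stab.mpr hk3) m))
  refine h.noS3 e (k ^ (orderOf k / 3)) (h.mul_self hE he) (orderOf_pow_orderOf_div (orderOf_pos k).ne' h3k) ?_
  have hconj : e * k * e⁻¹ = k⁻¹ := by
    rw [hk, mul_inv_rev, h.inv_eq hE he, h.inv_eq hgoodF.1.pgroup hf,
      show e * (e * f) * e = e * e * (f * e) by group, h.mul_self hE he, one_mul]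
  rw [← conj_pow, hconj, inv_pow]

/-- **No offender** meets the `2`-core trivially. -/
theorem Setting.card_mul_card_fixPts_lt {E : Subgroup X} (hE : IsPGroup 2 E) (hne : E ≠ ⊥)
    (hdis : E ⊓ twoCore ⊤ = ⊥) :
    Nat.card E * Nat.card (fixPts E (⊤ : AddSubgroup W)) < Nat.card W := by
  by_contra hle
  refine h.not_bad _ ⊤ ⊤ E le_rfl ⟨fun _ _ _ _ => AddSubgroup.mem_top _, fun x _ hx => ⟨0, ?_⟩, le_top, hE,
    hne, hdis, ?_⟩
  · rw [h.faithful x fun w => hx w (AddSubgroup.mem_top w), one_pow]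
  · rw [Nat.card_congr (AddSubgroup.topEquiv (G := W)).toEquiv]
    exact not_lt.mp hle

end CfsgLib.Techniques.QuadS4
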